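import Cfsg.Agent.Lib.Helper12.TCG.Fi22Id14080.Main

/-! the permutation representation for Fi22Id14080 (generated, helper12) -/

set_option autoImplicit false
set_option maxRecDepth 100000

namespace Cfsg.Agent.Lib.Helper12.TCG.Fi22Id14080

open Cfsg.Agent.Lib.Helper12.TC Cfsg.Agent.Lib.Helper12.TCG Cfsg.Agent.Lib.Helper12.Fi22M Cfsg.Agent.Lib.Helper12.Fi22M.PresI9

/-- the subgroup generated by the subgroup words -/
noncomputable def Hs : Subgroup PresI9.Grp :=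
  Subgroup.closure {γ | ∃ w ∈ sw, γ = wprod PresI9.v w}

theorem hH : Hs = Subgroup.closure {γ | ∃ w ∈ sw, γ = wprod PresI9.v w} := rfl

theorem hN0 : 0 < cN := by decide

/-- the permutation representation on the cosets of the subgroup -/
theorem mainRho : ∃ ρ : PresI9.Grp →* Equiv.Perm (Fin cN),
    (∀ x < 9, ∀ i : Fin cN, ((ρ (PresI9.v x) i : Fin cN) : ℕ) = TT x i) ∧ Hs.index = cN ∧
    ∃ Φ : PresI9.Grp ⧸ Hs ≃ Fin cN, ∀ γ : PresI9.Grp, Φ (γ : PresI9.Grp ⧸ Hs) = ρ γ ⟨0, hN0⟩ :=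
  main_rho PresI9.v 9 PresI9.cIV (by decide) PresI9.hiv PresI9.hvinv PresI9.hvge PresI9.hgen PresI9.baseL PresI9.hbase PresI9.hlet sw Hs hH F RW
    finrecs TT rotW chunks cD cK cR0 cR cN hdefs hchunks hcover hrelc hperm (fun f => PresI9.hlift f) hrels hsub
    htrans hfin hlen hN0

/-- the permutation representation -/
noncomputable def rho : PresI9.Grp →* Equiv.Perm (Fin cN) := mainRho.choose

theorem rho_gen : ∀ x < 9, ∀ i : Fin cN, ((rho (PresI9.v x) i : Fin cN) : ℕ) = TT x i :=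
  mainRho.choose_spec.1

theorem rho_index : Hs.index = cN := mainRho.choose_spec.2.1

theorem rho_equiv : ∃ Φ : PresI9.Grp ⧸ Hs ≃ Fin cN, ∀ γ : PresI9.Grp, Φ (γ : PresI9.Grp ⧸ Hs) = rho γ ⟨0, hN0⟩ :=
  mainRho.choose_spec.2.2

end Cfsg.Agent.Lib.Helper12.TCG.Fi22Id14080
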