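import Cfsg.Agent.Lib.Helper12.TCG.Fi22Id14080.Fin0
import Cfsg.Agent.Lib.Helper12.TCG.Fi22Id14080.Fin1
import Cfsg.Agent.Lib.Helper12.TCG.Fi22Id14080.Fin2
import Cfsg.Agent.Lib.Helper12.TCG.Fi22Id14080.Fin3
import Cfsg.Agent.Lib.Helper12.Fi22M.PresI9

/-! the final table for Fi22Id14080 (generated, helper12) -/

set_option autoImplicit false
set_option maxRecDepth 100000
set_option linter.unusedSimpArgs false
set_option Elab.async false

namespace Cfsg.Agent.Lib.Helper12.TCG.Fi22Id14080

open Cfsg.Agent.Lib.Helper12.TC Cfsg.Agent.Lib.Helper12.TCG Cfsg.Agent.Lib.Helper12.Fi22M.PresI9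

theorem hdefs_0 : defsPartK F 0 14216 = true := by decide +kernel

theorem hdefs : defsK F cD = true :=
  defsK_of_OK (defsOK_step hdefs_0 rfl
    (defsOK_start F))

theorem beq_chain {x A B : ℕ} (h1 : Nat.beq x A = true) (h2 : Nat.beq A B = true) :
    Nat.beq x B = true := by
  rw [Nat.eq_of_beq_eq_true h1]
  exact h2

theorem hlive' : Nat.beq (liveK (fr0 ++ (fr1 ++ (fr2 ++ (fr3))))) (Nat.lor LIVE0 (Nat.lor LIVE1 (Nat.lor LIVE2 (LIVE3)))) = true :=
  (liveK_append_beq hlive_0 (liveK_append_beq hlive_1 (liveK_append_beq hlive_2 hlive_3)))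

theorem hliveq : Nat.beq (Nat.lor LIVE0 (Nat.lor LIVE1 (Nat.lor LIVE2 (LIVE3)))) LIVE = true := by decide +kernel

theorem hlive : Nat.beq (liveK finrecs) LIVE = true := by
  unfold finrecs
  exact beq_chain hlive' hliveq

theorem hlive0 : bitK LIVE 0 = true := by decide +kernel

theorem hfin : finG cIV F cK 9 finrecs = true :=
  finG_of_parts hlive hlive0 (Fn.allListK_append hfin_0 (Fn.allListK_append hfin_1 (Fn.allListK_append hfin_2 hfin_3)))

theorem hlen : finrecs.length = cN := by
  simp only [finrecs, List.length_append]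
  decide +kernel

theorem hrelc : relCheckK RW cR0 cR baseL rotW sw = true := by
  decide +kernel

theorem hlet : lettersK 9 baseL = true := by decide +kernel

end Cfsg.Agent.Lib.Helper12.TCG.Fi22Id14080
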