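import Cfsg.Agent.Lib.Helper12.TCG.Fi22Id14080.Tab
import Cfsg.Agent.Lib.Helper12.TCG.Fi22Id14080.FinRecs

/-! the final table for Fi22Id14080, part 0 (generated, helper12) -/

set_option autoImplicit false
set_option maxRecDepth 100000

namespace Cfsg.Agent.Lib.Helper12.TCG.Fi22Id14080

open Cfsg.Agent.Lib.Helper12.TC Cfsg.Agent.Lib.Helper12.TCG

theorem hfin_0 : allListK fr0 (fun rec => finRecG cIV F LIVE cK 9 rec) = true := by decide +kernel

theorem hlive_0 : Nat.beq (liveK fr0) LIVE0 = true := by decide +kernel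

end Cfsg.Agent.Lib.Helper12.TCG.Fi22Id14080
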